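import Cfsg.Agent.Lib.Spor.TC.Signed

/-!
An excluded extension of the centralizer, case 2 2 0: tables found by a computer search.
-/

set_option autoImplicit false
set_option maxRecDepth 100000

namespace CfsgLib.Spor.HSType.Cert.H220

open CfsgLib.Spor.TC

def edgeTbl : Tbl :=
  (.bin (.bin (.bin (.tip 0x160001740001500016900014000153000130001400001200013000010000122000100000280001100003900010000110000000001080000f0000370000e0000f00000e0000e4000000000e60000c0000d1000070000c10000a0000b3000090000a30000800009000004000082000070000120000600007100005000063000040000500000100004200001000015000030000000000200003000000000004000000000020000100002000000000010) (.tip 0x10000000000300001a0002a00011a0002500010a000440004440006000044a000600006040000e0006080005f0004430005e0005f00005d0005e20005c0005d80005b0005c30005a0005b0000560005a2000560000d90005900056a00058000424000590000d900055000590000580000d7000540005800000d0002950000b000064)) (.bin (.tip 0xf0003f00000d0002220000d000061000230000da0000c0003ca000440003f80002500044600025000029000250002a00004300025a000430002a0000020004380003f0000260004200029700041000423000400004100003f000402000020003f60003c000231000010003e90003d0000330003b0003d10003b0003c30003a0003b1000390003a200038000392000370003840003600037700035000363000340003550003300034200032000334)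 .none)) (.bin (.bin (.tip 0x31000327000300003130002f0003040002e0002f90002d0002e30002c0002d00002b0002c00002a0002b20002a000038000010002a8000290000b10002800029300027000283000260002700002400026200023000061000040000850000000025900024000023000220002410002200023300021000221000200002120001f0002020001e0001f40001d0001e70001c0001d30001b0001c50001a0001b2000190001a40001800019700017000183) .none) (.bin (.tip 0x4f0000ba0005700006a0000b000574000090000540004700009a00007000569000550000c900053000550000540000c7000510005400005300007900052000530000060005280005100007700050000510000060005060004f0000640004e0004f70004d0004e30004c0004d90004b0004c20004a0004b6000490004a50004800049300005000488000470000540004600047400046000055000450004600000400045400011000018000110003ea) .none)))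

def nodeTbl : Tbl :=
  (.bin (.bin (.tip 0x1e40001d70001c30001b50001a20001940001870001730001640001590001430001300001200001020001000000080000e00000060000c10000710000a3000093000080000042000061000053000040000012000020000010000000000000) (.tip 0x5e00005d20005c80005b30005a00005620005500005400000b40000790005300005100005200000680005000000660004e70004d30004c90004b20004a60004950004830000580004640004500000440002560000280004130004000003f2)) (.bin (.tip 0x260000190003b10003b30003a10003920003820003740003670003530003450003320003240003170003030002f40002e90002d30002c00002b00002a20000180002830002730002600002420000090002210002230002110002020001f2) (.tip 0xe8)))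

def rowTbl : Tbl :=
  .none

/-- The relators. -/
def rels : List (List ℕ) := [
  [0, 0, 0, 0],
  [2, 2, 2, 2, 2, 2, 2],
  [4, 4, 4],
  [4, 2, 5, 3, 3],
  [4, 0, 5, 1],
  [0, 2, 0, 3, 1, 2, 1, 3],
  [0, 2, 2, 0, 3, 3, 1, 2, 2, 1, 3, 3],
  [2, 0, 3, 2, 2, 0, 3, 3, 2, 1, 3, 2, 2, 1, 3, 3],
  [2, 2, 2, 0, 3, 3, 3, 2, 2, 1, 3, 3, 2, 2, 1, 3, 3, 2, 1, 3, 2, 1, 3, 2, 1, 3, 1],
  [6, 4, 7, 4],
  [6, 0, 7, 0],
  [6, 2, 0, 3, 7, 2, 2, 1, 3, 3],
  [6, 6],
  [2, 6, 2, 6, 2, 6],
  [8, 4, 9, 5],
  [8, 0, 9, 0],
  [8, 8, 1, 1],
  [8, 6, 8, 6],
  [8, 2, 0, 0, 3, 9, 4, 3, 7, 4, 2, 5, 3, 7, 4, 2, 2, 1, 3, 2, 1, 3, 1, 1],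
  [8, 3, 5, 6, 2, 9, 3, 7, 4, 2],
  [8, 2, 0, 3, 8, 2, 0, 3, 8, 2, 0, 3, 5, 7]]

/-- The generators of the subgroup. -/
def subs : List (List ℕ) := [[2], [4]]

/-- The certificate. -/
noncomputable def cert : Cert :=
  ⟨10, rels, subs, edgeTbl.get 44, nodeTbl.get 24, rowTbl.get 20⟩

/-- The word traced into the subgroup. -/
def target : List ℕ := [0, 0]

end CfsgLib.Spor.HSType.Cert.H220
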