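import Cfsg.Agent.Lib.Spor.HSType.Cert.H220.Data

/-!
Checks of a part of the derivation.
-/

set_option autoImplicit false

namespace CfsgLib.Spor.HSType.Cert.H220

open CfsgLib.Spor.TC

def scodes0 : List ℕ := [
  0x1,
  0x1,
  0x10000100003,
  0x10000200003,
  0x1,
  0x2000040000a00004000010000100002,
  0x1000080000200003000010000500002,
  0x1,
  0x1,
  0x1,
  0x1,
  0x100005000020001000012000140001600006000010000600002,
  0x1,
  0x1,
  0x1,
  0x1,
  0x1,
  0x1,
  0x1,
  0x25000080002600002000010000a00002,
  0x1,
  0xc000260002a00003000010000b00002,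
  0x1,
  0x1,
  0xc0002e0003000003000010001000002,
  0x3000010002e00002000010001100002,
  0x1,
  0x1,
  0x1,
  0x1,
  0x1,
  0x1,
  0x1,
  0x1,
  0x1,
  0x1,
  0x1,
  0x1,
  0x1,
  0x1,
  0x1,
  0x1,
  0x1,
  0x1,
  0x1,
  0x3000010002e00036000380003a0003c0003e00040000420004400046000480004a0004c0004e0005000052000540005600058000570005a00016000010001300002,
  0x1,
  0x190000f0000d0001000003000020000400002,
  0x13000110000f000040005b000590005800005000020000600002,
  0x1,
  0x1,
  0x1,
  0x1,
  0x1f0001d0001b000190000f000040005b0006400066000680006a00007000020000700002,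
  0x1,
  0x9000030006e00002000020001100002,
  0x1,
  0x1,
  0x1,
  0x1,
  0x1,
  0x1,
  0x1,
  0x1,
  0x1,
  0x1,
  0x1,
  0x1,
  0x1,
  0x1,
  0x1,
  0x1,
  0x1,
  0x1,
  0x1,
  0x9000030006e000720007400076000780007a0007c0007e00080000820008400086000880008a0008c0008e000900009200094000930009600016000020001300002,
  0x1,
  0x570005a0005c0000a00097000950009400005000030000600002,
  0x1,
  0x1,
  0x1,
  0x1,
  0x690006700065000630005c0009e000a0000a2000a400005000030000c00002,
  0x9e00002000030000d00002,
  0x1,
  0x6d00004000aa00002000030001000002,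
  0x5d0000b00009000aa00002000030001100002,
  0xab000ae00004,
  0xaa000ae00004,
  0x1,
  0xa8000b1000b400003000030001200002,
  0x9300096000980000c0000600002000170002200006000040000600002,
  0x23000b80009c00004,
  0x61000ba00004,
  0x58000ba00004,
  0x9d0000a0002b00002000040000b00002,
  0x99000010000b0003100002000040001100002,
  0x9a000c100004,
  0x1,
  0x1,
  0x11000c6000c800003000050000500002,
  0x1,
  0xc9000cc00003000060000300002,
  0x1,
  0x1,
  0x1,
  0x1,
  0x1,
  0x1,
  0x1,
  0x1,
  0x13000d0000d2000d4000d6000d8000da000dc000de00009000060001400002,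
  0x1,
  0x1,
  0x15000e2000e400003000070000b00002,
  0x1,
  0x1,
  0x15000e8000ea00003000070001000002,
  0x1,
  0x21000e5000ee00003000080000b00002,
  0x1,
  0x21000eb000f200003000080001000002,
  0x1,
  0x1b0005f00012000cd00004000090000500002,
  0xcd000f800004,
  0x1,
  0x13000f90001e00020000fc000020000c0000400002,
  0xfc000fe000df00004,
  0xdf0010000004,
  0x6c00102000bb000030000c0000500002,
  0x1,
  0x23000ef00106000030000d0000b00002,
  0x1,
  0x23000f30010a000030000d0001000002,
  0xa60010300107000020000e0000a00002,
  0xf500022000240010b000020000e0001100002,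
  0x10b0011000004,
  0x1,
  0x1,
  0x1,
  0x1,
  0x1,
  0x1,
  0xb6000a0000a2000a40010d00108001110011400116001180011a0011c0011e000080000e0001500002,
  0x1,
  0x1210002700122000020000f0000f00002,
  0xb6000bf0002900122000020000f0001100002,
  0x125001230012600004,
  0x340005b00059000bd001110011400116001180011a0011c0011e0012000127000b30000f000110001500002,
  0x2f00129000b000004,
  0xc30012b0007000004,
  0xb0012e00004]

set_option maxRecDepth 100000 in
theorem steps0 : cert.SStepsOK 0 152 :=
  Cert.SStepsOK.of_check _ (codes := scodes0) (by decide +kernel)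

end CfsgLib.Spor.HSType.Cert.H220
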